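import Mathlib

/-!
# Coinvariants of a finite group of invertible order acting on a smooth algebra

Pure commutative algebra.  `A → B` smooth, `G` a finite group acting on `B` by `A`-algebra
endomorphisms `σ g`, `|G|` invertible in `A`, `π : B → C₀` a surjection which is "the universal
`G`-invariant quotient" (it is `G`-invariant, and every `G`-invariant ring map out of `B` kills
`ker π`).  Then `A → C₀` is smooth.
-/

set_option autoImplicit false
universe u v

namespace Groth.Agent.H8.FixSm

open scoped BigOperators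

variable {G : Type v} [Group G] [Fintype G]
variable {A B C₀ : Type u} [CommRing A] [CommRing B] [CommRing C₀]

/-- the kernel of the universal invariant quotient is generated by the `σ g b - b`, `b` running
through algebra generators. -/
theorem ker_fg (α : A →+* B) (π : B →+* C₀) (σ : G → (B →+* B))
    (hα : α.FiniteType)
    (hσα : ∀ g, (σ g).comp α = α) (hπσ : ∀ g, π.comp (σ g) = π)
    (H : ∀ (C : Type u) [CommRing C] (φ : B →+* C), (∀ g, φ.comp (σ g) = φ) →
      RingHom.ker π ≤ RingHom.ker φ) :
    (RingHom.ker π).FG := by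
  classical
  letI : Algebra A B := α.toAlgebra
  have hft : Algebra.FiniteType A B := hα
  obtain ⟨s, hs⟩ := hft.out
  let I₁ : Ideal B := Ideal.span (Set.range fun p : G × (s : Set B) => σ p.1 p.2.1 - p.2.1)
  have hI₁fg : I₁.FG := Submodule.fg_span (Set.finite_range _)
  have hmem : ∀ (g : G) (b : B), σ g b - b ∈ I₁ := by
    intro g
    have hall : ∀ b ∈ Algebra.adjoin A (s : Set B), σ g b - b ∈ I₁ := by
      intro b hb
      induction hb using Algebra.adjoin_induction with
      | mem x hx => exact Ideal.subset_span ⟨(g, ⟨x, hx⟩), rfl⟩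
      | algebraMap a =>
        have : σ g (algebraMap A B a) = algebraMap A B a := RingHom.congr_fun (hσα g) a
        rw [this, sub_self]; exact I₁.zero_mem
      | add x y _ _ hx hy =>
        have : σ g (x + y) - (x + y) = (σ g x - x) + (σ g y - y) := by rw [map_add]; ring
        rw [this]; exact I₁.add_mem hx hy
      | mul x y _ _ hx hy =>
        have : σ g (x * y) - x * y = σ g x * (σ g y - y) + (σ g x - x) * y := by
          rw [map_mul]; ring
        rw [this]; exact I₁.add_mem (I₁.mul_mem_left _ hy) (I₁.mul_mem_right _ hx)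
    intro b
    exact hall b (by rw [hs]; trivial)
  have hker : RingHom.ker π = I₁ := by
    apply le_antisymm
    · have := H (B ⧸ I₁) (Ideal.Quotient.mk I₁) (fun g => by
        ext b
        simp only [RingHom.comp_apply]
        exact Ideal.Quotient.eq.mpr (hmem g b))
      rwa [Ideal.mk_ker] at this
    · rw [Ideal.span_le]
      rintro _ ⟨p, rfl⟩
      show π (σ p.1 p.2.1 - p.2.1) = 0
      rw [map_sub, sub_eq_zero]
      exact RingHom.congr_fun (hπσ p.1) p.2.1
  rw [hker]; exact hI₁fg

/-- averaging lifts: the universal invariant quotient of a formally smooth algebra by a finite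
group of invertible order is formally smooth. -/
theorem formallySmooth_coinvariants (α : A →+* B) (π : B →+* C₀) (σ : G → (B →+* B))
    (hα : α.FormallySmooth) (hπ : Function.Surjective π)
    (hσα : ∀ g, (σ g).comp α = α) (hπσ : ∀ g, π.comp (σ g) = π)
    (hσ : ∀ g h, (σ h).comp (σ g) = σ (g * h))
    (hG : IsUnit ((Fintype.card G : ℕ) : A))
    (H : ∀ (C : Type u) [CommRing C] (φ : B →+* C), (∀ g, φ.comp (σ g) = φ) →
      RingHom.ker π ≤ RingHom.ker φ) :
    (π.comp α).FormallySmooth := by
  classical
  letI : Algebra A B := α.toAlgebra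
  letI : Algebra A C₀ := (π.comp α).toAlgebra
  haveI hfsB : Algebra.FormallySmooth A B := hα
  let πa : B →ₐ[A] C₀ := { π with commutes' := fun a => rfl }
  show Algebra.FormallySmooth A C₀
  apply Algebra.FormallySmooth.of_comp_surjective
  intro C _ _ I hI f₀
  obtain ⟨φ, hφ⟩ := Algebra.FormallySmooth.comp_surjective A B I hI (f₀.comp πa)
  have h1 : ∀ b, Ideal.Quotient.mk I (φ b) = f₀ (π b) := fun b => AlgHom.congr_fun hφ b
  have hmem : ∀ g b, φ (σ g b) - φ b ∈ I := by
    intro g b
    apply Ideal.Quotient.eq.mp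
    rw [h1, h1]
    exact congrArg f₀ (RingHom.congr_fun (hπσ g) b)
  have hzero : ∀ x ∈ I, ∀ y ∈ I, x * y = 0 := by
    intro x hx y hy
    have : x * y ∈ I ^ 2 := by rw [pow_two]; exact Ideal.mul_mem_mul hx hy
    rw [hI] at this
    simpa using this
  -- the inverse of |G|
  have hGC : IsUnit ((Fintype.card G : ℕ) : C) := by
    have := hG.map (algebraMap A C)
    simpa using this
  obtain ⟨w, hw⟩ := hGC
  set u : C := ((w⁻¹ : Cˣ) : C) with hu
  have hun : u * ((Fintype.card G : ℕ) : C) = 1 := by
    rw [← hw, hu]; exact Units.inv_mul w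
  let Sm : B → C := fun b => ∑ g : G, (φ (σ g b) - φ b)
  let D : B → C := fun b => u * Sm b
  have hSmem : ∀ b, Sm b ∈ I := fun b => I.sum_mem fun g _ => hmem g b
  have hDmem : ∀ b, D b ∈ I := fun b => I.mul_mem_left u (hSmem b)
  have hSadd : ∀ b c, Sm (b + c) = Sm b + Sm c := by
    intro b c
    show ∑ g : G, (φ (σ g (b + c)) - φ (b + c)) = _
    rw [← Finset.sum_add_distrib]
    refine Finset.sum_congr rfl fun g _ => ?_
    rw [map_add, map_add, map_add]; ring
  have hSmul : ∀ b c, Sm (b * c) = φ b * Sm c + Sm b * φ c := by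
    intro b c
    show ∑ g : G, (φ (σ g (b * c)) - φ (b * c)) = _
    rw [Finset.mul_sum, Finset.sum_mul, ← Finset.sum_add_distrib]
    refine Finset.sum_congr rfl fun g _ => ?_
    have hz := hzero _ (hmem g b) _ (hmem g c)
    rw [map_mul, map_mul, map_mul]
    linear_combination hz
  have hSalg : ∀ a : A, Sm (algebraMap A B a) = 0 := by
    intro a
    show ∑ g : G, (φ (σ g (algebraMap A B a)) - φ (algebraMap A B a)) = 0
    refine Finset.sum_eq_zero fun g _ => ?_
    have : σ g (algebraMap A B a) = algebraMap A B a := RingHom.congr_fun (hσα g) a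
    rw [this, sub_self]
  have hsumform : ∀ b, φ b + D b = u * ∑ g : G, φ (σ g b) := by
    intro b
    show φ b + u * ∑ g : G, (φ (σ g b) - φ b) = _
    rw [Finset.sum_sub_distrib, Finset.sum_const, Finset.card_univ, nsmul_eq_mul, mul_sub,
      ← mul_assoc, hun, one_mul]
    ring
  let ψ : B →+* C :=
    { toFun := fun b => φ b + D b
      map_one' := by
        show φ 1 + u * Sm 1 = 1
        have : Sm 1 = 0 := by
          show ∑ g : G, (φ (σ g 1) - φ 1) = 0
          refine Finset.sum_eq_zero fun g _ => ?_
          rw [map_one, sub_self]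
        rw [this, mul_zero, add_zero, map_one]
      map_mul' := by
        intro b c
        show φ (b * c) + u * Sm (b * c) = (φ b + u * Sm b) * (φ c + u * Sm c)
        have hz := hzero _ (hDmem b) _ (hDmem c)
        change u * Sm b * (u * Sm c) = 0 at hz
        rw [hSmul, map_mul]
        linear_combination (-1 : C) * hz
      map_zero' := by
        show φ 0 + u * Sm 0 = 0
        have : Sm 0 = 0 := by
          show ∑ g : G, (φ (σ g 0) - φ 0) = 0
          refine Finset.sum_eq_zero fun g _ => ?_
          rw [map_zero, sub_self]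
        rw [this, mul_zero, add_zero, map_zero]
      map_add' := by
        intro b c
        show φ (b + c) + u * Sm (b + c) = (φ b + u * Sm b) + (φ c + u * Sm c)
        rw [hSadd, map_add]; ring }
  have hψ : ∀ b, ψ b = φ b + D b := fun b => rfl
  have hψinv : ∀ g, ψ.comp (σ g) = ψ := by
    intro h
    ext b
    show ψ (σ h b) = ψ b
    rw [hψ, hψ, hsumform, hsumform]
    congr 1
    have : ∀ g : G, φ (σ g (σ h b)) = φ (σ (h * g) b) := by
      intro g
      have := RingHom.congr_fun (hσ h g) b
      rw [RingHom.comp_apply] at this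
      rw [this]
    rw [Finset.sum_congr rfl fun g _ => this g]
    exact Fintype.sum_equiv (Equiv.mulLeft h) _ _ (fun g => rfl)
  have hkerψ : RingHom.ker π ≤ RingHom.ker ψ := H C ψ hψinv
  let ψb : C₀ →+* C := π.liftOfSurjective hπ ⟨ψ, hkerψ⟩
  have hψb : ∀ b, ψb (π b) = ψ b := fun b => π.liftOfSurjective_comp_apply hπ ⟨ψ, hkerψ⟩ b
  let ψa : C₀ →ₐ[A] C :=
    { ψb with
      commutes' := by
        intro a
        show ψb (π (algebraMap A B a)) = algebraMap A C a
        rw [hψb, hψ]
        show φ (algebraMap A B a) + u * Sm (algebraMap A B a) = _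
        rw [hSalg, mul_zero, add_zero, AlgHom.commutes] }
  refine ⟨ψa, ?_⟩
  apply AlgHom.ext
  intro c
  obtain ⟨b, rfl⟩ := hπ c
  show Ideal.Quotient.mk I (ψb (π b)) = f₀ (π b)
  rw [hψb, hψ, map_add, h1]
  have : Ideal.Quotient.mk I (D b) = 0 := Ideal.Quotient.eq_zero_iff_mem.mpr (hDmem b)
  rw [this, add_zero]

/-- the universal invariant quotient of a smooth algebra by a finite group of invertible order
is smooth. -/
theorem smooth_coinvariants (α : A →+* B) (π : B →+* C₀) (σ : G → (B →+* B))
    (hα : α.Smooth) (hπ : Function.Surjective π)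
    (hσα : ∀ g, (σ g).comp α = α) (hπσ : ∀ g, π.comp (σ g) = π)
    (hσ : ∀ g h, (σ h).comp (σ g) = σ (g * h))
    (hG : IsUnit ((Fintype.card G : ℕ) : A))
    (H : ∀ (C : Type u) [CommRing C] (φ : B →+* C), (∀ g, φ.comp (σ g) = φ) →
      RingHom.ker π ≤ RingHom.ker φ) :
    (π.comp α).Smooth := by
  rw [RingHom.smooth_def]
  refine ⟨formallySmooth_coinvariants α π σ hα.formallySmooth hπ hσα hπσ hσ hG H, ?_⟩
  exact hα.finitePresentation.comp_surjective hπ
    (ker_fg α π σ (RingHom.FiniteType.of_finitePresentation hα.finitePresentation) hσα hπσ H)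

end Groth.Agent.H8.FixSm
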