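import Mathlib
import Groth.Agent.Lib.Helper8.FixSm.Alg

/-!
# Fixed points of a finite group of invertible order acting on a smooth separated scheme

`X` smooth and separated over `S`, `G` a finite group acting on `X` by `S`-automorphisms.
* `fixed_closed`, `isClosedImmersion_of_fixed`: the fixed point scheme is a closed subscheme
  (finite intersection of equalizers);
* `smooth_of_fixed`: if `|G|` is invertible on `S`, the fixed point scheme is smooth over `S`
  (`G`-stable affine neighbourhoods of fixed points + averaging of infinitesimal lifts).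
-/

set_option autoImplicit false
universe u v
open CategoryTheory CategoryTheory.Limits AlgebraicGeometry TopologicalSpace

namespace Groth.Agent.H8.FixSm

theorem appLE_of_eq {X Y : Scheme.{u}} {f g : X ⟶ Y} (h : f = g) (U : Y.Opens) (V : X.Opens)
    (e : V ≤ f ⁻¹ᵁ U) : f.appLE U V e = g.appLE U V (h ▸ e) := by
  subst h; rfl

variable {S : Scheme.{u}} (X : Over S) {G : Type v} [Group G] (ρ : G →* Aut X)

theorem fixed_closed [IsSeparated X.hom] (s : Finset G) :
    ∃ (W : Scheme.{u}) (j : W ⟶ X.left), IsClosedImmersion j ∧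
      ∀ (T : Scheme.{u}) (t : T ⟶ X.left),
        (∀ g ∈ s, t ≫ (ρ g).hom.left = t) ↔ ∃ t' : T ⟶ W, t' ≫ j = t := by
  classical
  induction s using Finset.induction_on with
  | empty =>
    exact ⟨X.left, 𝟙 _, inferInstance, fun T t =>
      ⟨fun _ => ⟨t, Category.comp_id t⟩, fun _ g hg => absurd hg (Finset.notMem_empty g)⟩⟩
  | insert a s ha ih =>
    obtain ⟨W, j, hj, hW⟩ := ih
    let e : (equalizer (ρ a).hom (𝟙 X)).left ⟶ X.left := (equalizer.ι (ρ a).hom (𝟙 X)).left
    haveI : IsClosedImmersion e := isClosedImmersion_equalizer_ι_left _ _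
    have he : e ≫ (ρ a).hom.left = e := by
      have := congrArg (fun f => f.left) (equalizer.condition (ρ a).hom (𝟙 X))
      simpa using this
    refine ⟨pullback j e, pullback.fst j e ≫ j, inferInstance, fun T t => ⟨fun h => ?_, ?_⟩⟩
    · obtain ⟨t₁, ht₁⟩ := (hW T t).mp (fun g hg => h g (Finset.mem_insert_of_mem hg))
      have hta := h a (Finset.mem_insert_self a s)
      let T' : Over S := Over.mk (t ≫ X.hom)
      let tt : T' ⟶ X := Over.homMk t rfl
      have htt : tt ≫ (ρ a).hom = tt ≫ 𝟙 X := by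
        ext
        show t ≫ (ρ a).hom.left = t ≫ 𝟙 _
        rw [hta, Category.comp_id]
      let t₂ : T ⟶ (equalizer (ρ a).hom (𝟙 X)).left := (equalizer.lift tt htt).left
      have ht₂ : t₂ ≫ e = t :=
        congrArg (fun f => f.left) (equalizer.lift_ι tt htt)
      exact ⟨pullback.lift t₁ t₂ (by rw [ht₁, ht₂]), by rw [pullback.lift_fst_assoc, ht₁]⟩
    · rintro ⟨t', rfl⟩ g hg
      rcases Finset.mem_insert.mp hg with rfl | hg
      · rw [pullback.condition]
        simp only [Category.assoc, he]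
      · exact (hW T _).mpr ⟨t' ≫ pullback.fst j e, by simp⟩ g hg

theorem isClosedImmersion_of_fixed [IsSeparated X.hom] [Finite G] (Z : Over S) (ι : Z ⟶ X)
    (hι : ∀ g : G, ι ≫ (ρ g).hom = ι)
    (hZ : ∀ (T : Over S) (t : T ⟶ X),
      (∀ g : G, t ≫ (ρ g).hom = t) ↔ ∃! t' : T ⟶ Z, t' ≫ ι = t) :
    IsClosedImmersion ι.left := by
  classical
  haveI : Fintype G := Fintype.ofFinite G
  obtain ⟨W, j, hj, hW⟩ := fixed_closed X ρ (Finset.univ : Finset G)
  obtain ⟨a, ha⟩ := (hW Z.left ι.left).mp (fun g _ => by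
    have := congrArg (fun f => f.left) (hι g)
    simpa using this)
  let T' : Over S := Over.mk (j ≫ X.hom)
  let jj : T' ⟶ X := Over.homMk j rfl
  have hjj : ∀ g : G, jj ≫ (ρ g).hom = jj := by
    intro g
    ext
    show j ≫ (ρ g).hom.left = j
    exact (hW W j).mpr ⟨𝟙 W, Category.id_comp j⟩ g (Finset.mem_univ g)
  obtain ⟨b, hb, -⟩ := (hZ T' jj).mp hjj
  have hb' : b.left ≫ ι.left = j := congrArg (fun f => f.left) hb
  have hab : a ≫ b.left = 𝟙 Z.left := by
    have hw : (a ≫ b.left) ≫ Z.hom = Z.hom := by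
      rw [← Over.w ι]
      simp only [Category.assoc]
      rw [reassoc_of% hb', reassoc_of% ha]
    let c : Z ⟶ Z := Over.homMk (a ≫ b.left) hw
    have hc : c ≫ ι = ι := by
      ext
      show (a ≫ b.left) ≫ ι.left = ι.left
      rw [Category.assoc, hb', ha]
    obtain ⟨d, -, hd⟩ := (hZ Z ι).mp hι
    have h1 : c = d := hd c hc
    have h2 : 𝟙 Z = d := hd (𝟙 Z) (Category.id_comp ι)
    exact congrArg (fun f => f.left) (h1.trans h2.symm)
  have hba : b.left ≫ a = 𝟙 W := by
    have : Mono j := inferInstance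
    rw [← cancel_mono j, Category.assoc, ha, hb']
    exact (Category.id_comp j).symm
  haveI : IsIso a := ⟨b.left, hab, hba⟩
  rw [← ha]
  infer_instance

set_option maxHeartbeats 1000000 in
theorem smooth_of_fixed [Smooth X.hom] [IsSeparated X.hom] [Finite G]
    (hG : IsUnit (Nat.card G : Γ(S, ⊤)))
    (Z : Over S) (ι : Z ⟶ X) [IsClosedImmersion ι.left]
    (hι : ∀ g : G, ι ≫ (ρ g).hom = ι)
    (hZ : ∀ (T : Over S) (t : T ⟶ X),
      (∀ g : G, t ≫ (ρ g).hom = t) → ∃ t' : T ⟶ Z, t' ≫ ι = t) :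
    Smooth Z.hom := by
  classical
  haveI : Fintype G := Fintype.ofFinite G
  have hQ : RingHom.StableUnderCompositionWithLocalizationAwaySource RingHom.Smooth :=
    (RingHom.Smooth.stableUnderComposition.stableUnderCompositionWithLocalizationAway
      RingHom.Smooth.holdsForLocalizationAway).1
  rw [HasRingHomProperty.iff_exists_appLE (P := @Smooth) hQ]
  intro z
  have hxz : X.hom (ι.left z) = Z.hom z := by
    rw [← Scheme.Hom.comp_apply, Over.w ι]
  obtain ⟨V, hV, hzV, -⟩ :=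
    Opens.isBasis_iff_nbhd.mp S.isBasis_affineOpens (Opens.mem_top (Z.hom z))
  obtain ⟨U₀, hU₀, hxU₀, hU₀V⟩ := Opens.isBasis_iff_nbhd.mp X.left.isBasis_affineOpens
    (show ι.left z ∈ X.hom ⁻¹ᵁ V from by
      show X.hom (ι.left z) ∈ V
      rw [hxz]; exact hzV)
  have hiso : ∀ g : G, IsIso (ρ g).hom.left :=
    fun g => inferInstanceAs (IsIso ((Over.forget S).map (ρ g).hom))
  have hwg : ∀ g : G, (ρ g).hom.left ≫ X.hom = X.hom := fun g => Over.w (ρ g).hom
  have hmul : ∀ g h : G, (ρ (g * h)).hom.left = (ρ h).hom.left ≫ (ρ g).hom.left := by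
    intro g h
    rw [map_mul]
    rfl
  have hιg : ∀ g : G, ι.left ≫ (ρ g).hom.left = ι.left := fun g => by
    have := congrArg (fun f => f.left) (hι g)
    simpa using this
  obtain ⟨U, hUdef⟩ : ∃ U : X.left.Opens, U = ⨅ g : G, (ρ g).hom.left ⁻¹ᵁ U₀ := ⟨_, rfl⟩
  have hmemU : ∀ y : X.left, y ∈ U ↔ ∀ g : G, (ρ g).hom.left y ∈ U₀ := by
    intro y
    rw [hUdef, ← SetLike.mem_coe, Opens.coe_iInf, Set.mem_iInter]
    rfl
  have hdiag : IsAffineHom (pullback.diagonal X.hom) := inferInstance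
  have key := isAffineHom_diagonal_iff.mp hdiag V hV
  have hUA : IsAffineOpen U ∧ U ≤ X.hom ⁻¹ᵁ V := by
    let 𝒜 : Set X.left.Opens := {O | IsAffineOpen O ∧ O ≤ X.hom ⁻¹ᵁ V}
    have h𝒜 : InfClosed 𝒜 :=
      fun a ha b hb => ⟨key a ha.2 b hb.2 ha.1 hb.1, inf_le_left.trans ha.2⟩
    have : (⨅ g : G, (ρ g).hom.left ⁻¹ᵁ U₀) ∈ 𝒜 := by
      apply h𝒜.iInf_mem_of_nonempty
      intro g
      haveI := hiso g
      refine ⟨hU₀.preimage_of_isIso (ρ g).hom.left, fun y hy => ?_⟩
      have h1 : (ρ g).hom.left y ∈ X.hom ⁻¹ᵁ V := hU₀V hy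
      show X.hom y ∈ V
      have h2 : X.hom ((ρ g).hom.left y) = X.hom y := by
        rw [← Scheme.Hom.comp_apply, hwg g]
      rw [← h2]; exact h1
    rw [hUdef]; exact this
  obtain ⟨hU, hUV⟩ := hUA
  have hxU : ι.left z ∈ U := by
    rw [hmemU]
    intro g
    have : (ρ g).hom.left (ι.left z) = ι.left z := by
      rw [← Scheme.Hom.comp_apply, hιg g]
    rw [this]; exact hxU₀
  have hstab : ∀ h : G, U ≤ (ρ h).hom.left ⁻¹ᵁ U := by
    intro h y hy
    show (ρ h).hom.left y ∈ U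
    rw [hmemU] at hy ⊢
    intro g
    have : (ρ g).hom.left ((ρ h).hom.left y) = (ρ (g * h)).hom.left y := by
      rw [hmul, Scheme.Hom.comp_apply]
    rw [this]; exact hy (g * h)
  have hW : IsAffineOpen (ι.left ⁻¹ᵁ U) := hU.preimage ι.left
  have e : ι.left ⁻¹ᵁ U ≤ Z.hom ⁻¹ᵁ V := by
    intro y hy
    show Z.hom y ∈ V
    have h1 : X.hom (ι.left y) ∈ V := hUV hy
    have h2 : X.hom (ι.left y) = Z.hom y := by
      rw [← Scheme.Hom.comp_apply, Over.w ι]
    rw [← h2]; exact h1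
  refine ⟨⟨V, hV⟩, ⟨ι.left ⁻¹ᵁ U, hW⟩, hxU, e, ?_⟩
  show (Z.hom.appLE V (ι.left ⁻¹ᵁ U) e).hom.Smooth
  have hcomp : Z.hom.appLE V (ι.left ⁻¹ᵁ U) e = X.hom.appLE V U hUV ≫ ι.left.app U := by
    rw [Scheme.Hom.app_eq_appLE, Scheme.Hom.appLE_comp_appLE]
    exact appLE_of_eq (Over.w ι).symm _ _ _
  have h1 : (X.hom.appLE V U hUV).hom.Smooth := Scheme.Hom.smooth_appLE X.hom hV hU hUV
  have h2 : Function.Surjective (ι.left.app U).hom := Scheme.Hom.app_surjective ι.left U hU
  have h3 : ∀ g : G, (((ρ g).hom.left.appLE U U (hstab g)).hom).comp (X.hom.appLE V U hUV).hom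
      = (X.hom.appLE V U hUV).hom := by
    intro g
    rw [← CommRingCat.hom_comp, Scheme.Hom.appLE_comp_appLE]
    exact congrArg CommRingCat.Hom.hom (appLE_of_eq (hwg g) _ _ _)
  have h4 : ∀ g : G, ((ι.left.app U).hom).comp ((ρ g).hom.left.appLE U U (hstab g)).hom
      = (ι.left.app U).hom := by
    intro g
    rw [← CommRingCat.hom_comp, Scheme.Hom.app_eq_appLE, Scheme.Hom.appLE_comp_appLE]
    exact congrArg CommRingCat.Hom.hom (appLE_of_eq (hιg g) _ _ _)
  have h5 : ∀ g h : G, (((ρ h).hom.left.appLE U U (hstab h)).hom).comp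
      ((ρ g).hom.left.appLE U U (hstab g)).hom = ((ρ (g * h)).hom.left.appLE U U (hstab (g * h))).hom := by
    intro g h
    rw [← CommRingCat.hom_comp, Scheme.Hom.appLE_comp_appLE]
    exact congrArg CommRingCat.Hom.hom (appLE_of_eq (hmul g h).symm _ _ _)
  have h6 : IsUnit ((Fintype.card G : ℕ) : Γ(S, V)) := by
    have := hG.map (S.presheaf.map (homOfLE (le_top : V ≤ ⊤)).op).hom
    simpa [Nat.card_eq_fintype_card] using this
  have H : ∀ (C : Type u) [CommRing C] (φ : Γ(X.left, U) →+* C),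
      (∀ g : G, φ.comp ((ρ g).hom.left.appLE U U (hstab g)).hom = φ) →
      RingHom.ker (ι.left.app U).hom ≤ RingHom.ker φ := by
    intro C _ φ hφ b hb
    rw [RingHom.mem_ker] at hb ⊢
    let φ' : Γ(X.left, U) ⟶ CommRingCat.of C := CommRingCat.ofHom φ
    let t : Spec (CommRingCat.of C) ⟶ X.left := Spec.map φ' ≫ hU.fromSpec
    have htg : ∀ g : G, t ≫ (ρ g).hom.left = t := by
      intro g
      show (Spec.map φ' ≫ hU.fromSpec) ≫ (ρ g).hom.left = Spec.map φ' ≫ hU.fromSpec
      rw [Category.assoc, ← IsAffineOpen.SpecMap_appLE_fromSpec (ρ g).hom.left hU hU (hstab g),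
        ← Spec.map_comp_assoc]
      congr 2
      ext x
      exact RingHom.congr_fun (hφ g) x
    let T' : Over S := Over.mk (t ≫ X.hom)
    let tt : T' ⟶ X := Over.homMk t rfl
    obtain ⟨t'', ht''⟩ := hZ T' tt (fun g => by
      ext
      show t ≫ (ρ g).hom.left = t
      exact htg g)
    have ht : t''.left ≫ ι.left = t := congrArg (fun f => f.left) ht''
    have htU : ∀ y : Spec (CommRingCat.of C), t y ∈ U := by
      intro y
      show (Spec.map φ' ≫ hU.fromSpec) y ∈ U
      rw [Scheme.Hom.comp_apply]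
      have : hU.fromSpec (Spec.map φ' y) ∈ Set.range hU.fromSpec := ⟨_, rfl⟩
      rw [hU.range_fromSpec] at this
      exact this
    have hle : (⊤ : (Spec (CommRingCat.of C)).Opens) ≤ t''.left ⁻¹ᵁ (ι.left ⁻¹ᵁ U) := by
      intro y _
      show ι.left (t''.left y) ∈ U
      rw [← Scheme.Hom.comp_apply, ht]
      exact htU y
    have e1 := IsAffineOpen.SpecMap_appLE_fromSpec t''.left hW
      (isAffineOpen_top (Spec (CommRingCat.of C))) hle
    have e2 := IsAffineOpen.SpecMap_appLE_fromSpec ι.left hU hW le_rfl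
    have e3 : (isAffineOpen_top (Spec (CommRingCat.of C))).fromSpec ≫ Spec.map φ' =
        Spec.map (ι.left.appLE U (ι.left ⁻¹ᵁ U) le_rfl ≫
          t''.left.appLE (ι.left ⁻¹ᵁ U) ⊤ hle) := by
      rw [← cancel_mono hU.fromSpec, Category.assoc]
      calc (isAffineOpen_top (Spec (CommRingCat.of C))).fromSpec ≫ Spec.map φ' ≫ hU.fromSpec
          = (isAffineOpen_top (Spec (CommRingCat.of C))).fromSpec ≫ t''.left ≫ ι.left := by
            rw [ht]
        _ = Spec.map (t''.left.appLE (ι.left ⁻¹ᵁ U) ⊤ hle) ≫ hW.fromSpec ≫ ι.left := by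
            rw [← Category.assoc, ← e1, Category.assoc]
        _ = Spec.map (t''.left.appLE (ι.left ⁻¹ᵁ U) ⊤ hle) ≫
              Spec.map (ι.left.appLE U (ι.left ⁻¹ᵁ U) le_rfl) ≫ hU.fromSpec := by
            rw [e2]
        _ = _ := by rw [Spec.map_comp, Category.assoc]
    rw [IsAffineOpen.fromSpec_top, Scheme.isoSpec_Spec_inv, ← Spec.map_comp, Spec.map_inj] at e3
    have e4 := congrArg (fun f => f.hom b) e3
    simp only [CommRingCat.hom_comp, RingHom.comp_apply] at e4
    have hb' : (ι.left.appLE U (ι.left ⁻¹ᵁ U) le_rfl).hom b = 0 := by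
      rw [← Scheme.Hom.app_eq_appLE]; exact hb
    rw [hb', map_zero] at e4
    have hinj : Function.Injective (Scheme.ΓSpecIso (CommRingCat.of C)).inv.hom :=
      (ConcreteCategory.bijective_of_isIso (Scheme.ΓSpecIso (CommRingCat.of C)).inv).1
    exact hinj (by rw [map_zero]; exact e4)
  rw [hcomp, CommRingCat.hom_comp]
  exact smooth_coinvariants (G := G) (X.hom.appLE V U hUV).hom (ι.left.app U).hom
    (fun g => ((ρ g).hom.left.appLE U U (hstab g)).hom) h1 h2 h3 h4 h5 h6 H

end Groth.Agent.H8.FixSm
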